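import Mathlib.AlgebraicGeometry.Morphisms.ClosedImmersion
import Mathlib.AlgebraicGeometry.IdealSheaf.Subscheme
import Mathlib.AlgebraicGeometry.Pullbacks
import Mathlib.RingTheory.TensorProduct.Free
import Mathlib.LinearAlgebra.Basis.VectorSpace

set_option autoImplicit false

/-!
Restriction of a closed subscheme along a scheme over a field: the points `t` of `X` such that the whole
fibre `{t} × Y` lies in a closed subscheme of `X × Y` form a closed subscheme.
-/

noncomputable section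

universe u

open CategoryTheory Limits AlgebraicGeometry
open scoped TensorProduct

namespace Groth.Agent.EssFree

section Local

variable {Z P T : Scheme.{u}} (z : Z ⟶ P) [Mono z]

/-- Factoring through a monomorphism is local. -/
theorem exists_factor_of_local (m : T ⟶ P)
    (h : ∀ p : T, ∃ W : T.Opens, p ∈ W ∧ ∃ l : W.toScheme ⟶ Z, l ≫ z = W.ι ≫ m) : ∃ l : T ⟶ Z, l ≫ z = m := by
  choose W hp l hl using h
  have hcov : TopologicalSpace.IsOpenCover W := by
    refine eq_top_iff.2 fun p _ => ?_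
    exact TopologicalSpace.Opens.mem_iSup.2 ⟨p, hp p⟩
  let 𝒰 := T.openCoverOfIsOpenCover W hcov
  refine ⟨Scheme.Cover.glueMorphisms 𝒰 l fun a b => ?_, Scheme.Cover.hom_ext 𝒰 _ _ fun a => ?_⟩
  · rw [← cancel_mono z, Category.assoc, Category.assoc]
    show pullback.fst ((W a).ι) ((W b).ι) ≫ l a ≫ z = pullback.snd _ _ ≫ l b ≫ z
    rw [hl, hl]
    exact pullback.condition_assoc _
  · rw [← Category.assoc, Scheme.Cover.ι_glueMorphisms]
    exact hl a

end Local

/-- The ideal of the preimage of a closed subscheme in an affine scheme. -/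
theorem exists_ideal_factor {Z P : Scheme.{u}} (z : Z ⟶ P) [IsClosedImmersion z] {C : CommRingCat.{u}}
    (ρ : Spec C ⟶ P) : ∃ J : Ideal C, ∀ (D : CommRingCat.{u}) (φ : C ⟶ D),
      (∃ l : Spec D ⟶ Z, l ≫ z = Spec.map φ ≫ ρ) ↔ J ≤ RingHom.ker φ.hom := by
  obtain ⟨J, e, he⟩ := IsClosedImmersion.Spec_iff.1 (inferInstance : IsClosedImmersion (pullback.snd z ρ))
  refine ⟨J, fun D φ => ⟨?_, fun h => ?_⟩⟩
  · rintro ⟨l, hl⟩
    let m := pullback.lift l (Spec.map φ) hl ≫ e.hom
    have hm : Spec.map φ = Spec.map (Spec.preimage m) ≫ Spec.map (CommRingCat.ofHom (Ideal.Quotient.mk J)) := by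
      rw [Spec.map_preimage, show m = pullback.lift l (Spec.map φ) hl ≫ e.hom from rfl, Category.assoc, ← he,
        pullback.lift_snd]
    rw [← Spec.map_comp] at hm
    intro c hc
    rw [RingHom.mem_ker, Spec.map_injective hm]
    show (Spec.preimage m).hom (Ideal.Quotient.mk J c) = 0
    rw [Ideal.Quotient.eq_zero_iff_mem.2 hc, map_zero]
  · refine ⟨Spec.map (CommRingCat.ofHom (Ideal.Quotient.lift J φ.hom fun c hc => h hc)) ≫ e.inv ≫ pullback.fst z ρ, ?_⟩
    rw [Category.assoc, Category.assoc, pullback.condition, ← Category.assoc e.inv, he, e.inv_hom_id_assoc,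
      ← Category.assoc, ← Spec.map_comp]
    rfl

section Coeff

variable {K A B : Type u} [Field K] [CommRing A] [CommRing B] [Algebra K A] [Algebra K B]

/-- The coefficients of an element with respect to a basis of the second factor. -/
def coeff (x : A ⊗[K] B) (i : Module.Free.ChooseBasisIndex K B) : A :=
  (Algebra.TensorProduct.basis A (Module.Free.chooseBasis K B)).repr x i

theorem coeff_map {R : Type u} [CommRing R] [Algebra K R] (φ : A →ₐ[K] R) (x : A ⊗[K] B)
    (i : Module.Free.ChooseBasisIndex K B) :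
    coeff (Algebra.TensorProduct.map φ (AlgHom.id K B) x) i = φ (coeff x i) := by
  induction x using TensorProduct.induction_on with
  | zero => simp [coeff]
  | add a b ha hb => simp only [coeff] at ha hb ⊢; simp only [map_add, Finsupp.add_apply, ha, hb]
  | tmul a b => simp [coeff, Algebra.TensorProduct.basis_repr_tmul, map_mul]

theorem map_eq_zero_iff_coeff {R : Type u} [CommRing R] [Algebra K R] (φ : A →ₐ[K] R) (x : A ⊗[K] B) :
    Algebra.TensorProduct.map φ (AlgHom.id K B) x = 0 ↔ ∀ i, φ (coeff x i) = 0 := by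
  constructor
  · intro h i
    rw [← coeff_map, h]
    simp [coeff]
  · intro h
    apply (Algebra.TensorProduct.basis R (Module.Free.chooseBasis K B)).repr.injective
    ext i
    rw [map_zero, Finsupp.zero_apply]
    exact (coeff_map φ x i).trans (h i)

end Coeff

variable {K : Type u} [Field K] {X Y : Scheme.{u}} {x : X ⟶ Spec (CommRingCat.of K)} {y : Y ⟶ Spec (CommRingCat.of K)}
  {Z : Scheme.{u}} (z : Z ⟶ pullback x y) [IsClosedImmersion z]

/-- The whole of `{t} × Y` lies in the closed subscheme. -/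
def Cond {T : Scheme.{u}} (t : T ⟶ X) : Prop :=
  ∀ (T' : Scheme.{u}) (h : T' ⟶ T) (w : T' ⟶ Y) (e : (h ≫ t) ≫ x = w ≫ y),
    ∃ l : T' ⟶ Z, l ≫ z = pullback.lift (h ≫ t) w e

theorem Cond.comp {T T₁ : Scheme.{u}} {t : T ⟶ X} (ht : Cond z t) (g : T₁ ⟶ T) : Cond z (g ≫ t) := by
  intro T' h w e
  obtain ⟨l, hl⟩ := ht T' (h ≫ g) w (by simpa using e)
  exact ⟨l, hl.trans (by simp)⟩

theorem cond_of_local {T : Scheme.{u}} (t : T ⟶ X) (h : ∀ p : T, ∃ W : T.Opens, p ∈ W ∧ Cond z (W.ι ≫ t)) :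
    Cond z t := by
  intro T' g w e
  refine exists_factor_of_local z _ fun p => ?_
  obtain ⟨W, hp, hW⟩ := h (g p)
  refine ⟨g ⁻¹ᵁ W, hp, ?_⟩
  have e' : (g ∣_ W ≫ W.ι ≫ t) = (g ⁻¹ᵁ W).ι ≫ g ≫ t := by rw [morphismRestrict_ι_assoc]
  obtain ⟨l, hl⟩ := hW _ (g ∣_ W) ((g ⁻¹ᵁ W).ι ≫ w) (by rw [e', Category.assoc, Category.assoc]; simpa using congrArg ((g ⁻¹ᵁ W).ι ≫ ·) e)
  refine ⟨l, hl.trans ?_⟩
  apply pullback.hom_ext
  · rw [pullback.lift_fst, Category.assoc, pullback.lift_fst, e']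
  · rw [pullback.lift_snd, Category.assoc, pullback.lift_snd]

/-- The universal ideal on an affine scheme over `X`. -/
theorem exists_ideal_cond {A : CommRingCat.{u}} (u : Spec A ⟶ X) :
    ∃ I : Ideal A, ∀ (R : CommRingCat.{u}) (φ : A ⟶ R), Cond z (Spec.map φ ≫ u) ↔ I ≤ RingHom.ker φ.hom := by
  classical
  letI : Algebra K A := (Spec.preimage (u ≫ x)).hom.toAlgebra
  have hu : u ≫ x = Spec.map (CommRingCat.ofHom (algebraMap K A)) := by
    rw [RingHom.algebraMap_toAlgebra, CommRingCat.ofHom_hom, Spec.map_preimage]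
  let alg : ∀ V : Y.affineOpens, Algebra K Γ(Y, V) := fun V => (Spec.preimage (V.2.fromSpec ≫ y)).hom.toAlgebra
  have hv : ∀ V : Y.affineOpens, letI := alg V
      V.2.fromSpec ≫ y = Spec.map (CommRingCat.ofHom (algebraMap K Γ(Y, V))) := fun V => by
    rw [RingHom.algebraMap_toAlgebra, CommRingCat.ofHom_hom, Spec.map_preimage]
  -- the pieces of the product
  have hρ : ∀ V : Y.affineOpens, letI := alg V
      (Spec.map (CommRingCat.ofHom (Algebra.TensorProduct.includeLeftRingHom : (A : Type u) →+* A ⊗[K] Γ(Y, V))) ≫ u) ≫ x =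
      (Spec.map (CommRingCat.ofHom (Algebra.TensorProduct.includeRight : Γ(Y, V) →ₐ[K] A ⊗[K] Γ(Y, V)).toRingHom) ≫
        V.2.fromSpec) ≫ y := fun V => by
    letI := alg V
    rw [Category.assoc, hu, Category.assoc, hv, ← Spec.map_comp, ← Spec.map_comp]
    congr 1
    ext k
    exact ((Algebra.TensorProduct.includeRight : Γ(Y, V) →ₐ[K] A ⊗[K] Γ(Y, V)).commutes k).symm
  have hJ : ∀ V : Y.affineOpens, letI := alg V
      ∃ J : Ideal (A ⊗[K] Γ(Y, V)), ∀ (D : CommRingCat.{u}) (φ : CommRingCat.of (A ⊗[K] Γ(Y, V)) ⟶ D),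
        (∃ l : Spec D ⟶ Z, l ≫ z = Spec.map φ ≫ pullback.lift _ _ (hρ V)) ↔ J ≤ RingHom.ker φ.hom := fun V =>
    letI := alg V
    exists_ideal_factor (C := CommRingCat.of (A ⊗[K] Γ(Y, V))) z (pullback.lift _ _ (hρ V))
  choose J hJ using hJ
  let I : Ideal A := Ideal.span {c | ∃ (V : Y.affineOpens), letI := alg V; ∃ w ∈ J V, ∃ i, coeff w i = c}
  refine ⟨I, fun R φ => ?_⟩
  letI : Algebra K R := (φ.hom.comp (algebraMap K A)).toAlgebra
  let φa : A →ₐ[K] R := { φ.hom with commutes' := fun _ => rfl }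
  have hR : Spec.map φ ≫ u ≫ x = Spec.map (CommRingCat.ofHom (algebraMap K R)) := by
    rw [hu, ← Spec.map_comp]
    rfl
  constructor
  · intro hc
    refine Ideal.span_le.2 ?_
    rintro _ ⟨V, w, hw, i, rfl⟩
    letI := alg V
    let h : CommRingCat.of (R ⊗[K] Γ(Y, V)) ⟶ CommRingCat.of (R ⊗[K] Γ(Y, V)) := 𝟙 _
    let inl : R ⟶ CommRingCat.of (R ⊗[K] Γ(Y, V)) := CommRingCat.ofHom Algebra.TensorProduct.includeLeftRingHom
    let inr : Γ(Y, V) ⟶ CommRingCat.of (R ⊗[K] Γ(Y, V)) :=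
      CommRingCat.ofHom (Algebra.TensorProduct.includeRight : Γ(Y, V) →ₐ[K] R ⊗[K] Γ(Y, V)).toRingHom
    have e : (Spec.map inl ≫ Spec.map φ ≫ u) ≫ x = (Spec.map inr ≫ V.2.fromSpec) ≫ y := by
      rw [Category.assoc, Category.assoc, hR, Category.assoc, hv, ← Spec.map_comp, ← Spec.map_comp]
      congr 1
      ext k
      exact ((Algebra.TensorProduct.includeRight : Γ(Y, V) →ₐ[K] R ⊗[K] Γ(Y, V)).commutes k).symm
    obtain ⟨l, hl⟩ := hc _ (Spec.map inl) (Spec.map inr ≫ V.2.fromSpec) e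
    let ψ : CommRingCat.of (A ⊗[K] Γ(Y, V)) ⟶ CommRingCat.of (R ⊗[K] Γ(Y, V)) :=
      CommRingCat.ofHom (Algebra.TensorProduct.map φa (AlgHom.id K Γ(Y, V))).toRingHom
    have hker := (hJ V _ ψ).1 ⟨l, hl.trans (by
      refine pullback.hom_ext ?_ ?_
      · rw [pullback.lift_fst, Category.assoc, pullback.lift_fst, ← Category.assoc, ← Category.assoc, ← Spec.map_comp,
          ← Spec.map_comp]
        congr 2
      · rw [pullback.lift_snd, Category.assoc, pullback.lift_snd, ← Category.assoc, ← Spec.map_comp]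
        congr 2
        ext b
        simp [ψ, inr])⟩
    exact (map_eq_zero_iff_coeff φa w).1 (hker hw) i
  · intro hI T' h w e
    refine exists_factor_of_local z _ fun p => ?_
    obtain ⟨V, hV, hpV, -⟩ :=
      exists_isAffineOpen_mem_and_subset (x := w p) (U := ⊤) trivial
    obtain ⟨W, hW, hpW, hWV⟩ := exists_isAffineOpen_mem_and_subset (x := p) (U := w ⁻¹ᵁ V) hpV
    refine ⟨W, hpW, ?_⟩
    letI := alg ⟨V, hV⟩
    let hR' : R ⟶ Γ(T', W) := Spec.preimage (hW.fromSpec ≫ h)
    let wB : Γ(Y, V) ⟶ Γ(T', W) := w.appLE V W hWV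
    have hwB : hW.fromSpec ≫ w = Spec.map wB ≫ hV.fromSpec := (IsAffineOpen.SpecMap_appLE_fromSpec w hV hW hWV).symm
    have hcomp : (algebraMap K R) = φ.hom.comp (algebraMap K A) := rfl
    have hk : CommRingCat.ofHom (algebraMap K R) ≫ hR' = CommRingCat.ofHom (algebraMap K Γ(Y, V)) ≫ wB := by
      apply Spec.map_injective
      rw [Spec.map_comp, Spec.map_comp, Spec.map_preimage, ← hR, ← hv ⟨V, hV⟩]
      have e' := congrArg (hW.fromSpec ≫ ·) e
      simp only [Category.assoc] at e'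
      simp only [Category.assoc]
      rw [e', ← Category.assoc, hwB, Category.assoc]
    letI : Algebra K Γ(T', W) := (wB.hom.comp (algebraMap K Γ(Y, V))).toAlgebra
    let fR : R →ₐ[K] Γ(T', W) := { hR'.hom with commutes' := fun k => congr($(hk).hom k) }
    let fB : Γ(Y, V) →ₐ[K] Γ(T', W) := { wB.hom with commutes' := fun _ => rfl }
    let θ : CommRingCat.of (A ⊗[K] Γ(Y, V)) ⟶ Γ(T', W) :=
      CommRingCat.ofHom ((Algebra.TensorProduct.lift fR fB fun _ _ => Commute.all _ _).comp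
        (Algebra.TensorProduct.map φa (AlgHom.id K Γ(Y, V)))).toRingHom
    obtain ⟨l, hl⟩ := (hJ ⟨V, hV⟩ _ θ).2 fun c hc => by
      have h0 : Algebra.TensorProduct.map φa (AlgHom.id K Γ(Y, V)) c = 0 :=
        (map_eq_zero_iff_coeff φa c).2 fun i => hI (Ideal.subset_span ⟨⟨V, hV⟩, c, hc, i, rfl⟩)
      show Algebra.TensorProduct.lift fR fB (fun _ _ => Commute.all _ _)
        (Algebra.TensorProduct.map φa (AlgHom.id K Γ(Y, V)) c) = 0
      rw [h0, map_zero]
    refine ⟨hW.isoSpec.hom ≫ l, ?_⟩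
    rw [Category.assoc, hl, show W.ι = hW.isoSpec.hom ≫ hW.fromSpec by rw [IsAffineOpen.fromSpec, Iso.hom_inv_id_assoc],
      Category.assoc]
    congr 1
    refine pullback.hom_ext ?_ ?_
    · rw [Category.assoc, Category.assoc, pullback.lift_fst, pullback.lift_fst, ← Category.assoc, ← Spec.map_comp,
        ← Category.assoc hW.fromSpec, ← Spec.map_preimage (hW.fromSpec ≫ h), ← Category.assoc, ← Spec.map_comp]
      congr 2
      ext a
      simp [θ, fR, φa, hR']
    · rw [Category.assoc, Category.assoc, pullback.lift_snd, pullback.lift_snd, hwB, ← Category.assoc, ← Spec.map_comp]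
      congr 2
      ext b
      simp [θ, fB]

/-- The points where the whole fibre lies in a closed subscheme form a closed subscheme. -/
theorem exists_closed_cond : ∃ (W : Scheme.{u}) (i : W ⟶ X), IsClosedImmersion i ∧
    ∀ (T : Scheme.{u}) (t : T ⟶ X), (∃ g : T ⟶ W, g ≫ i = t) ↔ Cond z t := by
  classical
  choose I hI using fun U : X.affineOpens => exists_ideal_cond z U.2.fromSpec
  let 𝓘 : X.IdealSheafData :=
    { ideal := I
      map_ideal_basicOpen := fun U f => by
        let ρ := X.presheaf.map (homOfLE (X.basicOpen_le f)).op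
        have hρ : Spec.map ρ ≫ U.2.fromSpec = (X.affineBasicOpen f).2.fromSpec :=
          IsAffineOpen.map_fromSpec _ (X.affineBasicOpen f).2 _
        apply le_antisymm
        · rw [Ideal.map_le_iff_le_comap]
          let mk := CommRingCat.ofHom (Ideal.Quotient.mk (I (X.affineBasicOpen f)))
          have h := (hI U _ (ρ ≫ mk)).1 (by
            rw [Spec.map_comp, Category.assoc, hρ]
            exact (hI _ _ mk).2 fun c hc => Ideal.Quotient.eq_zero_iff_mem.2 hc)
          exact fun c hc => (Ideal.Quotient.eq_zero_iff_mem (I := I (X.affineBasicOpen f))).1 (h hc)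
        · let mk := CommRingCat.ofHom (Ideal.Quotient.mk ((I U).map ρ.hom))
          have h := (hI (X.affineBasicOpen f) _ mk).1 (by
            rw [← hρ]
            have h' := (hI U _ (ρ ≫ mk)).2 fun c hc => Ideal.Quotient.eq_zero_iff_mem.2 (Ideal.mem_map_of_mem _ hc)
            rw [Spec.map_comp, Category.assoc] at h'
            exact h')
          exact fun c hc => Ideal.Quotient.eq_zero_iff_mem.1 (h hc) }
  refine ⟨𝓘.subscheme, 𝓘.subschemeι, inferInstance, fun T t => ⟨?_, fun ht => ?_⟩⟩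
  · rintro ⟨g, rfl⟩
    refine Cond.comp z (cond_of_local z _ fun p => ?_) g
    obtain ⟨y', hy'⟩ := 𝓘.subschemeCover.covers p
    let U : X.affineOpens := 𝓘.subschemeCover.idx p
    refine ⟨(𝓘.subschemeCover.f U).opensRange, ⟨y', hy'⟩, ?_⟩
    have h : Cond z (𝓘.subschemeCover.f U ≫ 𝓘.subschemeι) := by
      rw [Scheme.IdealSheafData.subschemeCover_map_subschemeι, Scheme.IdealSheafData.glueDataObjι_ι]
      exact (hI U _ _).2 fun c hc => Ideal.Quotient.eq_zero_iff_mem.2 hc
    have h' := Cond.comp z h (IsOpenImmersion.isoOfRangeEq (𝓘.subschemeCover.f U)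
      ((𝓘.subschemeCover.f U).opensRange).ι (by rw [Scheme.Opens.range_ι]; rfl)).inv
    rwa [← Category.assoc, IsOpenImmersion.isoOfRangeEq_inv_fac] at h'
  · refine exists_factor_of_local 𝓘.subschemeι t fun p => ?_
    obtain ⟨U, hU, hpU, -⟩ := exists_isAffineOpen_mem_and_subset (x := t p) (U := ⊤) trivial
    obtain ⟨W, hW, hpW, hWU⟩ := exists_isAffineOpen_mem_and_subset (x := p) (U := t ⁻¹ᵁ U) hpU
    refine ⟨W, hpW, ?_⟩
    have hφ : hW.fromSpec ≫ t = Spec.map (t.appLE U W hWU) ≫ hU.fromSpec :=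
      (IsAffineOpen.SpecMap_appLE_fromSpec t hU hW hWU).symm
    have hker := (hI ⟨U, hU⟩ _ (t.appLE U W hWU)).1 (hφ ▸ Cond.comp z ht hW.fromSpec)
    refine ⟨hW.isoSpec.hom ≫ Spec.map (CommRingCat.ofHom (Ideal.Quotient.lift (I ⟨U, hU⟩) (t.appLE U W hWU).hom
      fun c hc => hker hc)) ≫ 𝓘.subschemeCover.f ⟨U, hU⟩, ?_⟩
    rw [show W.ι = hW.isoSpec.hom ≫ hW.fromSpec by rw [IsAffineOpen.fromSpec, Iso.hom_inv_id_assoc]]
    simp only [Category.assoc, hφ]
    congr 1
    refine Eq.trans (congrArg (_ ≫ ·) ((𝓘.subschemeCover_map_subschemeι ⟨U, hU⟩).trans (𝓘.glueDataObjι_ι ⟨U, hU⟩))) ?_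
    show _ ≫ Spec.map _ ≫ hU.fromSpec = _
    rw [← Category.assoc, ← Spec.map_comp]
    rfl

end Groth.Agent.EssFree
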